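import Groth.Prelude.Def_W4c3degenlocivbPfaff
import Mathlib.LinearAlgebra.Matrix.NonsingularInverse
import Mathlib.RingTheory.MvPolynomial.Homogeneous
import Mathlib.Data.Matrix.Basic
import Mathlib.Tactic.Ring

/-!
# Sub-Pfaffians of general skew matrices of binary linear forms
-/

universe u

open MvPolynomial W4c3degenlocivb

noncomputable section

namespace Groth.Agent.SubPf28

theorem pf_map {R S : Type*} [CommRing R] [CommRing S] (φ : R →+* S) :
    ∀ (n : ℕ) (T : Matrix (Fin n) (Fin n) R), φ (pf n T) = pf n (T.map φ)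
  | 0, T => map_one φ
  | 1, T => map_zero φ
  | n + 2, T => by
    simp only [pf, map_sum, map_mul, map_pow, map_neg, map_one, pf_map φ n, Matrix.submatrix_map, Matrix.map_apply]

theorem pf_isHomogeneous {R σ : Type*} [CommRing R] :
    ∀ (q : ℕ) (T : Matrix (Fin (2 * q)) (Fin (2 * q)) (MvPolynomial σ R)), (∀ i j, (T i j).IsHomogeneous 1) →
      (pf (2 * q) T).IsHomogeneous q
  | 0, T, _ => isHomogeneous_one σ R
  | q + 1, T, h => by
    refine IsHomogeneous.sum _ _ _ fun j _ => ?_
    have e : ((-1 : MvPolynomial σ R) ^ ((j : ℕ) + 1)) = C ((-1 : R) ^ ((j : ℕ) + 1)) := by simp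
    rw [e, mul_assoc, show q + 1 = 1 + q from add_comm _ _]
    exact ((h _ _).mul (pf_isHomogeneous q _ fun a b => h _ _)).C_mul _

variable {R : Type*} [CommRing R]

/-- A matrix supported next to the diagonal. -/
def tri (a : ℕ → R) (x y : ℕ) : R := if x = y + 1 then a y else if y = x + 1 then -a x else 0

/-- The index map omitting `i`. -/
def skip (i x : ℕ) : ℕ := if x < i then x else x + 1

theorem pf_tri (u v : R) (a : ℕ → R) (hu : ∀ j, j % 2 = 0 → a j = u) (hv : ∀ j, j % 2 = 1 → a j = v) :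
    ∀ (q s : ℕ), s ≤ q → ∃ ε : ℤ, (ε = 1 ∨ ε = -1) ∧
      pf (2 * q) (Matrix.of fun x y : Fin (2 * q) => tri a (skip (2 * s) x) (skip (2 * s) y)) =
        (ε : R) * (u ^ s * v ^ (q - s))
  | 0, s, hs => ⟨1, Or.inl rfl, by
      obtain rfl : s = 0 := by omega
      simp [pf]⟩
  | q + 1, s, hs => by
    have key : ∀ (s' : ℕ) (w : R), tri a (skip (2 * s) (2 * q + 1)) (skip (2 * s) (2 * q)) = w → s' ≤ q →
        (∀ x, x < 2 * q → skip (2 * s) x = skip (2 * s') x) →
        ∃ ε : ℤ, (ε = 1 ∨ ε = -1) ∧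
          pf (2 * (q + 1)) (Matrix.of fun x y : Fin (2 * (q + 1)) => tri a (skip (2 * s) x) (skip (2 * s) y)) =
            (ε : R) * (w * (u ^ s' * v ^ (q - s'))) := by
      intro s' w hw hs' hsk
      obtain ⟨ε, hε, h⟩ := pf_tri u v a hu hv q s' hs'
      refine ⟨-ε, by omega, ?_⟩
      show pf (2 * q + 2) _ = _
      rw [pf, Finset.sum_eq_single (Fin.last (2 * q))]
      · simp only [Fin.succAbove_last, Fin.val_last, Matrix.of_apply, Fin.val_castSucc, hw]
        rw [show ((-1 : R) ^ (2 * q + 1)) = -1 by rw [pow_succ, pow_mul]; simp]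
        erw [show (Matrix.submatrix (Matrix.of fun x y : Fin (2 * q + 2) => tri a (skip (2 * s) x) (skip (2 * s) y))
            (Fin.castSucc ∘ Fin.castSucc) (Fin.castSucc ∘ Fin.castSucc) : Matrix (Fin (2 * q)) (Fin (2 * q)) R) =
            Matrix.of fun x y : Fin (2 * q) => tri a (skip (2 * s') x) (skip (2 * s') y) by
          ext x y
          simp [hsk _ x.isLt, hsk _ y.isLt]]
        rw [h]
        push_cast
        ring
      · intro j _ hj
        have hj' : (j : ℕ) < 2 * q := Fin.val_lt_last hj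
        simp only [Matrix.of_apply, Fin.val_castSucc, Fin.val_last]
        have : tri a (skip (2 * s) (2 * q + 1)) (skip (2 * s) j) = 0 := by
          have h1 : skip (2 * s) j + 1 < skip (2 * s) (2 * q + 1) := by
            unfold skip
            split_ifs <;> omega
          rw [tri, if_neg (by omega), if_neg (by omega)]
        rw [this, mul_zero, zero_mul]
      · simp
    rcases eq_or_lt_of_le hs with rfl | hlt
    · obtain ⟨ε, hε, h⟩ := key q u (by
        rw [skip, skip, if_pos (by omega), if_pos (by omega), tri, if_pos rfl, hu _ (by omega)]) le_rfl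
        (fun x hx => by rw [skip, skip, if_pos (by omega), if_pos hx])
      refine ⟨ε, hε, h.trans ?_⟩
      rw [Nat.sub_self, Nat.sub_self]
      ring
    · obtain ⟨ε, hε, h⟩ := key s v (by
        rw [skip, skip, if_neg (by omega), if_neg (by omega), tri, if_pos rfl, hv _ (by omega)]) (by omega)
        (fun x _ => rfl)
      refine ⟨ε, hε, h.trans ?_⟩
      rw [show q + 1 - s = q - s + 1 by omega]
      ring

lemma val_succAbove {n : ℕ} (i : Fin (n + 1)) (x : Fin n) : ((i.succAbove x : Fin (n + 1)) : ℕ) = skip i x := by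
  rw [Fin.succAbove, skip]
  split_ifs with h h' h' <;> simp_all [Fin.lt_def]

theorem main (k : Type u) [Field k] (r : ℕ) :
    ∃ Φ : MvPolynomial (Fin (2 * r + 1) × Fin (2 * r + 1) × Fin 2) k,
      (∃ c : Fin (2 * r + 1) → Fin (2 * r + 1) → Fin 2 → k, (∀ i j l, c j i l = -c i j l) ∧
        MvPolynomial.eval (fun p => c p.1 p.2.1 p.2.2) Φ ≠ 0) ∧
      ∀ c : Fin (2 * r + 1) → Fin (2 * r + 1) → Fin 2 → k, (∀ i j l, c j i l = -c i j l) →
        MvPolynomial.eval (fun p => c p.1 p.2.1 p.2.2) Φ ≠ 0 →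
        Submodule.span k (Set.range fun i : Fin (2 * r + 1) =>
            pf (2 * r) ((Matrix.of fun a b => ∑ l : Fin 2, C (c a b l) * X l).submatrix i.succAbove i.succAbove)) =
          homogeneousSubmodule (Fin 2) k r := by
  let idx : Fin (r + 1) → Fin (2 * r + 1) := fun s => ⟨2 * s, by omega⟩
  let mon : Fin (r + 1) → (Fin 2 →₀ ℕ) := fun t =>
    Finsupp.single 0 (t : ℕ) + Finsupp.single 1 (r - (t : ℕ))
  let Gen : Matrix (Fin (2 * r + 1)) (Fin (2 * r + 1))
      (MvPolynomial (Fin 2) (MvPolynomial (Fin (2 * r + 1) × Fin (2 * r + 1) × Fin 2) k)) :=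
    Matrix.of fun a b => ∑ l : Fin 2, C (X (a, b, l)) * X l
  let P : Fin (2 * r + 1) → MvPolynomial (Fin 2) (MvPolynomial (Fin (2 * r + 1) × Fin (2 * r + 1) × Fin 2) k) :=
    fun i => pf (2 * r) (Gen.submatrix i.succAbove i.succAbove)
  let M : Matrix (Fin (r + 1)) (Fin (r + 1)) (MvPolynomial (Fin (2 * r + 1) × Fin (2 * r + 1) × Fin 2) k) :=
    Matrix.of fun s t => coeff (mon t) (P (idx s))
  refine ⟨M.det, ?_, ?_⟩
  all_goals
    have hspec : ∀ (c : Fin (2 * r + 1) → Fin (2 * r + 1) → Fin 2 → k) (i : Fin (2 * r + 1)),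
        MvPolynomial.map (eval fun p : Fin (2 * r + 1) × Fin (2 * r + 1) × Fin 2 => c p.1 p.2.1 p.2.2) (P i) =
          pf (2 * r) ((Matrix.of fun a b => ∑ l : Fin 2, C (c a b l) * X l).submatrix i.succAbove i.succAbove) := by
      intro c i
      simp only [P]
      rw [pf_map, ← Matrix.submatrix_map]
      congr 2
      ext a b
      simp [Gen]
  · let c : Fin (2 * r + 1) → Fin (2 * r + 1) → Fin 2 → k := fun i j l =>
      if (i : ℕ) = j + 1 then (if (l : ℕ) = (j : ℕ) % 2 then 1 else 0)
      else if (j : ℕ) = i + 1 then -(if (l : ℕ) = (i : ℕ) % 2 then 1 else 0) else 0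
    have hc : ∀ i j l, c j i l = -c i j l := fun i j l => by
      simp only [c]
      split_ifs <;> first | omega | simp
    refine ⟨c, hc, ?_⟩
    rw [RingHom.map_det]
    let a : ℕ → MvPolynomial (Fin 2) k := fun j => if j % 2 = 0 then X 0 else X 1
    have hval : ∀ s : Fin (r + 1), ∃ ε : k, ε ≠ 0 ∧
        MvPolynomial.map (eval fun p : Fin (2 * r + 1) × Fin (2 * r + 1) × Fin 2 => c p.1 p.2.1 p.2.2) (P (idx s)) =
          monomial (mon s) ε := by
      intro s
      obtain ⟨ε, hε, h⟩ := pf_tri (X 0 : MvPolynomial (Fin 2) k) (X 1) a (fun j hj => if_pos hj)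
        (fun j hj => if_neg (by omega)) r s (Nat.lt_succ_iff.1 s.isLt)
      refine ⟨(ε : k), by rcases hε with rfl | rfl <;> simp, ?_⟩
      have hm : monomial (mon s) (ε : k) = (ε : MvPolynomial (Fin 2) k) * (X 0 ^ (s : ℕ) * X 1 ^ (r - (s : ℕ))) := by
        rw [← map_intCast (C : k →+* MvPolynomial (Fin 2) k), X_pow_eq_monomial, X_pow_eq_monomial, monomial_mul,
          C_mul_monomial, one_mul, mul_one]
      rw [hspec, hm, ← h]
      congr 1
      ext x y : 1
      simp only [Matrix.submatrix_apply, Matrix.of_apply, c, tri, a, val_succAbove, idx, Fin.sum_univ_two]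
      split_ifs <;> first | omega | simp_all
    choose ε hε hval using hval
    rw [show (eval fun p : Fin (2 * r + 1) × Fin (2 * r + 1) × Fin 2 => c p.1 p.2.1 p.2.2).mapMatrix M =
      Matrix.diagonal ε from ?_, Matrix.det_diagonal]
    · exact Finset.prod_ne_zero_iff.2 fun s _ => hε s
    · ext s t
      simp only [RingHom.mapMatrix_apply, Matrix.map_apply, M, Matrix.of_apply, ← coeff_map, hval, coeff_monomial]
      by_cases hst : s = t
      · subst hst; simp
      · rw [Matrix.diagonal_apply_ne _ hst, if_neg]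
        intro h
        have := congrArg (fun f : Fin 2 →₀ ℕ => f 0) h
        simp [mon] at this
        exact hst (Fin.ext this)
  · intro c _ hΦ
    have hhom : ∀ i : Fin (2 * r + 1),
        (pf (2 * r) ((Matrix.of fun a b => ∑ l : Fin 2, C (c a b l) * X l).submatrix i.succAbove i.succAbove)).IsHomogeneous r :=
      fun i => pf_isHomogeneous r _ fun a b => by
        simp only [Matrix.submatrix_apply, Matrix.of_apply]
        exact IsHomogeneous.sum _ _ _ fun l _ => (isHomogeneous_X k l).C_mul _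
    refine le_antisymm (Submodule.span_le.2 ?_) fun f hf => ?_
    · rintro _ ⟨i, rfl⟩
      exact hhom i
    let A : Matrix (Fin (r + 1)) (Fin (r + 1)) k :=
      (eval fun p : Fin (2 * r + 1) × Fin (2 * r + 1) × Fin 2 => c p.1 p.2.1 p.2.2).mapMatrix M
    have hA : IsUnit A.det := by
      rw [isUnit_iff_ne_zero, ← RingHom.map_det]
      exact hΦ
    let v : Fin (r + 1) → k := Matrix.vecMul (fun t => coeff (mon t) f) A⁻¹
    have hv : Matrix.vecMul v A = fun t => coeff (mon t) f := by
      rw [Matrix.vecMul_vecMul, Matrix.nonsing_inv_mul _ hA, Matrix.vecMul_one]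
    have hfe : f = ∑ s, v s • pf (2 * r)
        ((Matrix.of fun a b => ∑ l : Fin 2, C (c a b l) * X l).submatrix (idx s).succAbove (idx s).succAbove) := by
      refine MvPolynomial.ext _ _ fun m => ?_
      by_cases hm : m.degree = r
      · obtain ⟨t, rfl⟩ : ∃ t, mon t = m := by
          rw [Finsupp.degree_eq_sum, Fin.sum_univ_two] at hm
          refine ⟨⟨m 0, by omega⟩, ?_⟩
          ext j
          fin_cases j <;> simp [mon] <;> omega
        rw [coeff_sum, ← congrFun hv t]
        simp only [Matrix.vecMul, dotProduct, coeff_smul, smul_eq_mul, A, RingHom.mapMatrix_apply, Matrix.map_apply,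
          M, Matrix.of_apply, ← coeff_map, hspec]
      · rw [(show f.IsHomogeneous r from hf).coeff_eq_zero hm, coeff_sum, Finset.sum_eq_zero fun s _ => ?_]
        rw [coeff_smul, (hhom (idx s)).coeff_eq_zero hm, smul_zero]
    rw [hfe]
    exact Submodule.sum_mem _ fun s _ => Submodule.smul_mem _ _ (Submodule.subset_span ⟨idx s, rfl⟩)

end Groth.Agent.SubPf28
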